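import Groth.Agent.SSExist.Van
import Groth.Agent.ModGroth.Basic

/-!
Restriction to a subterminal object of a ringed site: extension by zero on presheaves,
restriction preserves injectives, the unit to the direct image splits on injectives.
-/

set_option autoImplicit false
set_option linter.style.haveILetI false
set_option backward.isDefEq.respectTransparency false
set_option backward.isDefEq.respectTransparency.types false

open CategoryTheory CategoryTheory.Limits Opposite

namespace Groth.Agent.SubtermOn

universe u

open Groth.Agent.ModGroth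

variable {C : Type u} [SmallCategory C] {J : GrothendieckTopology C} {O : Sheaf J CommRingCat.{u}} {U : C}
  (hU : ∀ V : C, Subsingleton (V ⟶ U))

/-- Over a subterminal object every object has at most one structure map. -/
noncomputable def ov {V W : C} (k : W ⟶ V) (h : V ⟶ U) (h' : W ⟶ U) : op (Over.mk h) ⟶ op (Over.mk h') :=
  (Over.homMk k (by have := hU W; exact Subsingleton.elim _ _) : Over.mk h' ⟶ Over.mk h).op

open Classical in
/-- Restriction of families of sections over a subterminal object. -/
noncomputable def mp (A : ModSite.Mod (O.over U)) {V W : C} (k : W ⟶ V)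
    (a : ∀ h : V ⟶ U, A.val.obj (op (Over.mk h))) (h' : W ⟶ U) : A.val.obj (op (Over.mk h')) :=
  if hh : Nonempty (V ⟶ U) then A.val.presheaf.map (ov hU k hh.some h') (a hh.some) else 0

lemma mp_pos (A : ModSite.Mod (O.over U)) {V W : C} (k : W ⟶ V)
    (a : ∀ h : V ⟶ U, A.val.obj (op (Over.mk h))) (h' : W ⟶ U) (g : V ⟶ U) :
    mp hU A k a h' = A.val.presheaf.map (ov hU k g h') (a g) := by
  classical
  have := hU V
  have e : Nonempty.some (⟨g⟩ : Nonempty (V ⟶ U)) = g := Subsingleton.elim _ _
  rw [mp, dif_pos ⟨g⟩, e]

lemma mp_neg (A : ModSite.Mod (O.over U)) {V W : C} (k : W ⟶ V)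
    (a : ∀ h : V ⟶ U, A.val.obj (op (Over.mk h))) (h' : W ⟶ U) (h : IsEmpty (V ⟶ U)) :
    mp hU A k a h' = 0 := by
  classical
  rw [mp, dif_neg fun ⟨g⟩ => h.false g]

lemma ov_id {V : C} (h : V ⟶ U) : ov hU (𝟙 V) h h = 𝟙 _ :=
  Quiver.Hom.unop_inj (CostructuredArrow.hom_ext _ _ rfl)

/-- The abelian presheaf of the extension by zero. -/
noncomputable def onPsh (A : ModSite.Mod (O.over U)) : Cᵒᵖ ⥤ AddCommGrpCat.{u} where
  obj V := AddCommGrpCat.of (∀ h : V.unop ⟶ U, A.val.obj (op (Over.mk h)))
  map {V W} k := AddCommGrpCat.ofHom (AddMonoidHom.mk' (fun a h' => mp hU A k.unop a h')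
    (fun a b => funext fun h' => by
      show mp hU A k.unop (a + b) h' = mp hU A k.unop a h' + mp hU A k.unop b h'
      rcases isEmpty_or_nonempty (V.unop ⟶ U) with h | ⟨⟨g⟩⟩
      · rw [mp_neg hU A k.unop _ h' h, mp_neg hU A k.unop _ h' h, mp_neg hU A k.unop _ h' h, add_zero]
      · rw [mp_pos hU A k.unop _ h' g, mp_pos hU A k.unop _ h' g, mp_pos hU A k.unop _ h' g]
        exact map_add (A.val.presheaf.map _).hom _ _))
  map_id V := by
    refine AddCommGrpCat.ext fun a => funext fun h => ?_
    show mp hU A (𝟙 V.unop) a h = a h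
    rw [mp_pos hU A _ a h h, ov_id]
    exact ConcreteCategory.congr_hom (A.val.presheaf.map_id _) _
  map_comp {V W T} k l := by
    refine AddCommGrpCat.ext fun a => funext fun h => ?_
    show mp hU A (l.unop ≫ k.unop) a h = mp hU A l.unop (fun h' => mp hU A k.unop a h') h
    rcases isEmpty_or_nonempty (V.unop ⟶ U) with hV | ⟨⟨g⟩⟩
    · rw [mp_neg hU A _ a h hV]
      rcases isEmpty_or_nonempty (W.unop ⟶ U) with hW | ⟨⟨g'⟩⟩
      · rw [mp_neg hU A _ _ h hW]
      · rw [mp_pos hU A _ _ h g', mp_neg hU A _ a g' hV, map_zero]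
    · rw [mp_pos hU A _ a h g, mp_pos hU A _ _ h (k.unop ≫ g), mp_pos hU A _ a (k.unop ≫ g) g,
        ← ConcreteCategory.comp_apply, ← Functor.map_comp]
      rfl

noncomputable instance onPshModule (A : ModSite.Mod (O.over U)) (V : Cᵒᵖ) :
    Module ((O.obj ⋙ forget₂ CommRingCat.{u} RingCat.{u}).obj V) ((onPsh hU A).obj V) :=
  inferInstanceAs (Module ((O.obj ⋙ forget₂ CommRingCat.{u} RingCat.{u}).obj V)
    (∀ h : V.unop ⟶ U, A.val.obj (op (Over.mk h))))

/-- The presheaf extension by zero from a subterminal object. -/
noncomputable def onPre (A : ModSite.Mod (O.over U)) : PM O :=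
  PresheafOfModules.ofPresheaf (R := O.obj ⋙ forget₂ CommRingCat.{u} RingCat.{u}) (onPsh hU A)
    (fun V W k r a => funext fun h' => by
      show mp hU A k.unop (fun h => r • (show ∀ h : V.unop ⟶ U, A.val.obj (op (Over.mk h)) from a) h) h' = _
      rcases isEmpty_or_nonempty (V.unop ⟶ U) with hV | ⟨⟨g⟩⟩
      · refine (mp_neg hU A _ _ h' hV).trans ?_
        exact (smul_eq_zero_of_right
          (show (ModSite.ringSh (O.over U)).obj.obj (op (Over.mk h')) from (O.obj ⋙ forget₂ CommRingCat.{u} RingCat.{u}).map k r)
          (mp_neg hU A k.unop a h' hV)).symm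
      · refine (mp_pos hU A _ _ h' g).trans ((A.val.map_smul (ov hU k.unop g h') r _).trans ?_)
        exact congrArg _ (mp_pos hU A _ _ h' g).symm)

/-- Functoriality of `onPre`. -/
noncomputable def onMap {A B : ModSite.Mod (O.over U)} (f : A ⟶ B) : onPre hU A ⟶ onPre hU B :=
  PresheafOfModules.homMk
    { app := fun V => AddCommGrpCat.ofHom (AddMonoidHom.mk'
        (fun (a : ∀ h : V.unop ⟶ U, A.val.obj (op (Over.mk h))) h => f.val.app _ (a h))
        (fun a b => funext fun h => map_add (f.val.app _).hom _ _))
      naturality := fun V W k => by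
        classical
        ext a
        funext h'
        show f.val.app _ (mp hU A k.unop a h') = mp hU B k.unop (fun h => f.val.app _ (a h)) h'
        rcases isEmpty_or_nonempty (V.unop ⟶ U) with hV | ⟨⟨g⟩⟩
        · rw [mp_neg hU A _ _ h' hV, mp_neg hU B _ _ h' hV, map_zero]
        · rw [mp_pos hU A _ _ h' g, mp_pos hU B _ _ h' g]
          exact PresheafOfModules.naturality_apply f.val (ov hU k.unop g h') _ }
    (fun V r a => funext fun h => (f.val.app (op (Over.mk h))).hom.map_smul r _)

open Classical in
/-- The morphism out of `onPre` attached to a morphism to a restriction. -/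
noncomputable def onDesc {A : ModSite.Mod (O.over U)} {P : ModSite.Mod O} (φ : A ⟶ (ModSite.restr O U).obj P) :
    onPre hU A ⟶ (fg O).obj P :=
  PresheafOfModules.homMk
    { app := fun V => AddCommGrpCat.ofHom (AddMonoidHom.mk'
        (fun (a : ∀ h : V.unop ⟶ U, A.val.obj (op (Over.mk h))) =>
          if hh : Nonempty (V.unop ⟶ U) then φ.val.app (op (Over.mk hh.some)) (a hh.some) else (0 : P.val.obj V))
        (fun a b => by
          split_ifs with hh
          · exact map_add (φ.val.app _).hom _ _
          · exact (add_zero _).symm))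
      naturality := fun V W k => by
        ext (a : ∀ h : V.unop ⟶ U, A.val.obj (op (Over.mk h)))
        show (if hh : Nonempty (W.unop ⟶ U) then φ.val.app (op (Over.mk hh.some))
            (((onPsh hU A).map k) a hh.some) else (0 : P.val.obj W)) =
          P.val.presheaf.map k (if hh : Nonempty (V.unop ⟶ U) then φ.val.app (op (Over.mk hh.some)) (a hh.some)
            else (0 : P.val.obj V))
        by_cases hV : Nonempty (V.unop ⟶ U)
        · have hW : Nonempty (W.unop ⟶ U) := hV.map fun g => k.unop ≫ g
          rw [dif_pos hV, dif_pos hW]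
          refine (congrArg (φ.val.app (op (Over.mk hW.some))) (mp_pos hU A k.unop a hW.some hV.some)).trans ?_
          exact PresheafOfModules.naturality_apply φ.val (ov hU k.unop hV.some hW.some) _
        · rw [dif_neg hV, map_zero]
          split_ifs with hW
          · exact (congrArg (φ.val.app (op (Over.mk hW.some))) (mp_neg hU A k.unop a hW.some (not_nonempty_iff.1 hV))).trans (map_zero _)
          · rfl }
    (fun V r a => by
      show (if hh : Nonempty (V.unop ⟶ U) then
          φ.val.app (op (Over.mk hh.some)) (r • (show ∀ h : V.unop ⟶ U, A.val.obj (op (Over.mk h)) from a) hh.some)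
          else (0 : P.val.obj V)) =
        r • (if hh : Nonempty (V.unop ⟶ U) then
          φ.val.app (op (Over.mk hh.some)) ((show ∀ h : V.unop ⟶ U, A.val.obj (op (Over.mk h)) from a) hh.some)
          else (0 : P.val.obj V))
      split_ifs with hh
      · exact (φ.val.app (op (Over.mk hh.some))).hom.map_smul r _
      · exact (smul_zero r).symm)

/-- A section over an object over `U` as a section of the extension by zero. -/
noncomputable def toOn {A : ModSite.Mod (O.over U)} (Y : Over U) (x : A.val.obj (op Y)) :
    (onPre hU A).obj (op Y.left) :=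
  fun h => A.val.presheaf.map (ov hU (𝟙 Y.left) Y.hom h) x

lemma onDesc_toOn {A : ModSite.Mod (O.over U)} {P : ModSite.Mod O} (φ : A ⟶ (ModSite.restr O U).obj P)
    (Y : Over U) (x : A.val.obj (op Y)) : (onDesc hU φ).app (op Y.left) (toOn hU Y x) = φ.val.app (op Y) x := by
  classical
  show (if hh : Nonempty (Y.left ⟶ U) then φ.val.app (op (Over.mk hh.some)) (toOn hU Y x hh.some)
    else (0 : P.val.obj (op Y.left))) = φ.val.app (op Y) x
  rw [dif_pos ⟨Y.hom⟩]
  refine (PresheafOfModules.naturality_apply φ.val (ov hU (𝟙 Y.left) Y.hom _) x).trans ?_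
  exact ConcreteCategory.congr_hom (P.val.presheaf.map_id _) _

lemma onMap_toOn {A B : ModSite.Mod (O.over U)} (f : A ⟶ B) (Y : Over U) (x : A.val.obj (op Y)) :
    (onMap hU f).app (op Y.left) (toOn hU Y x) = toOn hU Y (f.val.app (op Y) x) :=
  funext fun _ => PresheafOfModules.naturality_apply f.val _ x

lemma mono_onMap {A B : ModSite.Mod (O.over U)} (f : A ⟶ B) [Mono f] : Mono (onMap hU f) := by
  haveI : PreservesLimitsOfSize.{u, u} (forgetPM (O.over U)) := (adjn (O.over U)).rightAdjoint_preservesLimits
  haveI hm : Mono ((fg (O.over U)).map f) := (inferInstance : Mono ((forgetPM (O.over U)).map f))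
  exact PresheafOfModules.mono_of_injective fun V a b hab => funext fun h =>
    PresheafOfModules.injective_of_mono ((fg (O.over U)).map f) (op (Over.mk h)) (congrFun hab h)

lemma mono_onDesc {A : ModSite.Mod (O.over U)} {P : ModSite.Mod O} (φ : A ⟶ (ModSite.restr O U).obj P) [Mono φ] :
    Mono (onDesc hU φ) := by
  haveI : PreservesLimitsOfSize.{u, u} (forgetPM (O.over U)) := (adjn (O.over U)).rightAdjoint_preservesLimits
  haveI hm : Mono ((fg (O.over U)).map φ) := (inferInstance : Mono ((forgetPM (O.over U)).map φ))
  refine PresheafOfModules.mono_of_injective fun V a b hab => funext fun h => ?_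
  classical
  replace hab : (if hh : Nonempty (V.unop ⟶ U) then φ.val.app (op (Over.mk hh.some)) (a hh.some)
      else (0 : P.val.obj V)) = (if hh : Nonempty (V.unop ⟶ U) then φ.val.app (op (Over.mk hh.some)) (b hh.some)
      else (0 : P.val.obj V)) := hab
  rw [dif_pos ⟨h⟩, dif_pos ⟨h⟩] at hab
  have := hU V.unop
  have e : Nonempty.some (⟨h⟩ : Nonempty (V.unop ⟶ U)) = h := Subsingleton.elim _ _
  rw [e] at hab
  exact PresheafOfModules.injective_of_mono ((fg (O.over U)).map φ) (op (Over.mk h)) hab

lemma exists_ext {I : ModSite.Mod O} [Injective I] {X Y : PM O} (m : X ⟶ Y) [Mono m] (d : X ⟶ (fg O).obj I) :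
    ∃ d' : Y ⟶ (fg O).obj I, m ≫ d' = d := by
  haveI : PreservesFiniteLimits (sh O) :=
    inferInstanceAs (PreservesFiniteLimits
      (PresheafOfModules.sheafification.{u} (𝟙 (ModSite.ringSh O).obj)))
  refine ⟨(adjn O).homEquiv _ I (Injective.factorThru (((adjn O).homEquiv _ I).symm d) ((sh O).map m)), ?_⟩
  refine ((adjn O).homEquiv_naturality_left _ _).symm.trans ?_
  exact (congrArg _ (Injective.comp_factorThru _ _)).trans (Equiv.apply_symm_apply _ _)

include hU in
/-- Restriction to a subterminal object preserves injectives. -/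
theorem injective_restr (I : ModSite.Mod O) [Injective I] : Injective ((ModSite.restr O U).obj I) where
  factors {A B} g f hf := by
    haveI := mono_onMap hU f
    obtain ⟨d', hd⟩ := exists_ext (onMap hU f) (onDesc hU g)
    refine ⟨⟨PresheafOfModules.homMk
      { app := fun Y => AddCommGrpCat.ofHom (AddMonoidHom.mk'
          (fun x : B.val.obj Y => d'.app (op Y.unop.left) (toOn hU Y.unop x))
          (fun x y => (congrArg (d'.app (op Y.unop.left))
            (funext fun h => map_add (B.val.presheaf.map _).hom x y)).trans (map_add (d'.app _).hom _ _)))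
        naturality := fun Y Z k => by
          ext (x : B.val.obj Y)
          show d'.app (op Z.unop.left) (toOn hU Z.unop (B.val.presheaf.map k x)) =
            I.val.presheaf.map k.unop.left.op (d'.app (op Y.unop.left) (toOn hU Y.unop x))
          refine Eq.trans ?_ (PresheafOfModules.naturality_apply d' k.unop.left.op _)
          congr 1
          funext h
          classical
          refine Eq.trans ?_ (mp_pos hU B _ _ h Y.unop.hom).symm
          show B.val.presheaf.map _ (B.val.presheaf.map k x) = B.val.presheaf.map _ (B.val.presheaf.map _ x)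
          rw [← ConcreteCategory.comp_apply, ← ConcreteCategory.comp_apply, ← Functor.map_comp, ← Functor.map_comp]
          congr 3
          exact Quiver.Hom.unop_inj (CostructuredArrow.hom_ext _ _ (by simp [ov])) }
      (fun Y r x => ?_)⟩, ?_⟩
    · show d'.app (op Y.unop.left) (toOn hU Y.unop (r • x)) = r • d'.app (op Y.unop.left) (toOn hU Y.unop x)
      refine Eq.trans (congrArg (d'.app (op Y.unop.left)) (funext fun h => ?_)) ((d'.app (op Y.unop.left)).hom.map_smul r _)
      refine (B.val.map_smul (ov hU (𝟙 Y.unop.left) Y.unop.hom h) r x).trans ?_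
      congr 1
      exact ConcreteCategory.congr_hom (O.obj.map_id _) r
    · refine SheafOfModules.hom_ext (PresheafOfModules.hom_ext fun Y => ?_)
      ext x
      show d'.app (op Y.unop.left) (toOn hU Y.unop (f.val.app Y x)) = g.val.app Y x
      rw [← onMap_toOn hU f Y.unop x, ← onDesc_toOn hU g Y.unop x]
      exact congrArg (fun z => z.app (op Y.unop.left) (toOn hU Y.unop x)) hd

include hU in
/-- Morphisms over a subterminal object into an injective module extend. -/
theorem restr_map_surjective (P I : ModSite.Mod O) [Injective I]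
    (β : (ModSite.restr O U).obj P ⟶ (ModSite.restr O U).obj I) :
    ∃ α : P ⟶ I, (ModSite.restr O U).map α = β := by
  haveI := mono_onDesc hU (𝟙 ((ModSite.restr O U).obj P))
  obtain ⟨d', hd⟩ := exists_ext (onDesc hU (𝟙 ((ModSite.restr O U).obj P))) (onDesc hU β)
  refine ⟨⟨d'⟩, SheafOfModules.hom_ext (PresheafOfModules.hom_ext fun Y => ?_)⟩
  ext x
  show d'.app (op Y.unop.left) x = β.val.app Y x
  rw [← onDesc_toOn hU β Y.unop x, ← hd]
  exact congrArg (d'.app (op Y.unop.left)) (onDesc_toOn hU (𝟙 ((ModSite.restr O U).obj P)) Y.unop x).symm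

include hU in
/-- The unit `M ⟶ j_* (M|_U)` splits on injectives. -/
theorem epi_unit [ModSite.HasPushOver O U] (I : ModSite.Mod O) [Injective I] :
    Epi ((ModSite.restrPushOverAdj O U).unit.app I) := by
  let adj := ModSite.restrPushOverAdj O U
  obtain ⟨α, hα⟩ := restr_map_surjective hU ((ModSite.pushOver O U).obj ((ModSite.restr O U).obj I)) I
    (adj.counit.app _)
  have : IsSplitEpi (adj.unit.app I) := ⟨⟨⟨α, by
    refine (adj.unit.naturality α).trans ?_
    show adj.unit.app _ ≫ (ModSite.pushOver O U).map ((ModSite.restr O U).map α) = 𝟙 _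
    rw [hα]
    exact adj.right_triangle_components _⟩⟩⟩
  infer_instance

end Groth.Agent.SubtermOn
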